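import Cfsg.Agent.SchurCert.Gen

set_option autoImplicit false

/-!
Certificate data for the 2-part of the multiplier of `M22`.
-/

namespace CfsgLib.M22Mult

open CfsgLib.M23Coh (Step)

/-- Generators of a Sylow 2-subgroup and the elements effecting fusion, as codes. -/
def codes : List ℕ :=
  [0xba6c77ce558b03411a087288b195a0,
   0xba61499e356386f2aac19196269100,
   0xbd6cd090695a2623aa11299ec74a80,
   0xbc13171e9664c2f5aaa3918a4409a0,
   0xbc12c950f68bc9342aa5718615b440,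
   0xbdab173e9094c67229216184b69500,
   0xbdab3a31d03c4322a92379962411a0,
   0xbd0465152e8c1046556d9d82f38e40,
   0xbbdab8a025a1e041d9c962a7230aa0]

/-- The certificate. -/
def cert : SchurCert.GCert where
  p := 2
  n := 7
  rels := [([0, 0], [3, 6]),
   ([1, 0], [0, 1, 3]),
   ([1, 1], []),
   ([2, 0], [0, 2, 4]),
   ([2, 1], [1, 2, 5]),
   ([2, 2], [6]),
   ([3, 0], [0, 3]),
   ([3, 1], [1, 3]),
   ([3, 2], [2, 3, 5, 6]),
   ([3, 3], []),
   ([4, 0], [0, 4, 5]),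
   ([4, 1], [1, 4, 5, 6]),
   ([4, 2], [2, 4, 6]),
   ([4, 3], [3, 4, 6]),
   ([4, 4], [6]),
   ([5, 0], [0, 5, 6]),
   ([5, 1], [1, 5]),
   ([5, 2], [2, 5]),
   ([5, 3], [3, 5]),
   ([5, 4], [4, 5]),
   ([5, 5], []),
   ([6, 0], [0, 6]),
   ([6, 1], [1, 6]),
   ([6, 2], [2, 6]),
   ([6, 3], [3, 6]),
   ([6, 4], [4, 6]),
   ([6, 5], [5, 6]),
   ([6, 6], []),
   ([7, 3, 5], [5, 6, 7]),
   ([7, 0, 1, 4, 5, 6], [1, 3, 5, 7]),
   ([8, 3, 6], [1, 2, 3, 5, 6, 8]),
   ([8, 1, 3, 5, 6], [1, 2, 4, 8]),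
   ([7, 1], [1, 2, 4, 5, 7])]
  eqs := [([7, 3, 5, 0, 1, 4, 5, 6], [(28, false, 0), (29, false, 2), (22, false, 1), (16, false, 0), (24, false, 2), (18, false, 1), (26, false, 3), (20, false, 2)], [(15, false, 2), (6, false, 1), (22, false, 4), (16, false, 3), (7, false, 2), (25, false, 5), (19, false, 4), (26, false, 6), (20, false, 5), (27, false, 5), (20, true, 5), (27, true, 6), (26, true, 5), (13, true, 3), (18, true, 4), (24, true, 5), (29, false, 0), (28, false, 3), (20, false, 2)]),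
   ([8, 3, 6, 1, 3, 5, 6], [(30, false, 0), (31, false, 5), (22, false, 4), (16, false, 3), (7, false, 2), (4, false, 1), (2, false, 0), (18, false, 1), (20, false, 2), (23, false, 2), (8, false, 1), (5, false, 0), (24, false, 0), (26, false, 1), (27, false, 2), (25, false, 2), (19, false, 1)], [(22, false, 2), (7, false, 1), (24, false, 3), (9, false, 2), (26, false, 2), (27, false, 3), (27, true, 3), (9, true, 2), (18, true, 3), (24, true, 4), (31, false, 0), (30, false, 3), (11, false, 2), (4, false, 1), (2, false, 0), (19, false, 1), (20, false, 2), (23, false, 2), (12, false, 1), (5, false, 0), (25, false, 0), (27, false, 1), (24, false, 1), (13, false, 0), (27, false, 2)]),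
   ([7, 0, 1, 4, 5, 6, 0, 1, 4, 5, 6], [(29, false, 0), (29, false, 3), (16, false, 2), (7, false, 1), (2, false, 0), (18, false, 1), (9, false, 0), (20, false, 0)], [(21, false, 5), (15, false, 4), (10, false, 3), (1, false, 2), (0, false, 1), (22, false, 2), (7, false, 1), (24, false, 3), (9, false, 2), (25, false, 2), (26, false, 3), (26, false, 4), (20, false, 3), (27, false, 3), (22, false, 3), (11, false, 2), (2, false, 1), (27, false, 3), (19, false, 2), (14, false, 1), (26, false, 1), (26, false, 2), (20, false, 1), (27, false, 1)]),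
   ([7, 1, 1], [(32, false, 0), (32, false, 4), (16, false, 3), (11, false, 2), (4, false, 1), (2, false, 0), (19, false, 1), (20, false, 2), (26, false, 2), (23, false, 3), (17, false, 2), (12, false, 1), (5, false, 0), (25, false, 0), (27, false, 1), (25, false, 2), (19, false, 1), (14, false, 0), (26, false, 0), (27, false, 1), (20, false, 0)], [(2, false, 1)]),
   ([8, 3, 6, 3, 6], [(30, false, 0), (30, false, 5), (22, false, 4), (16, false, 3), (7, false, 2), (4, false, 1), (2, false, 0), (18, false, 1), (20, false, 2), (23, false, 2), (8, false, 1), (5, false, 0), (24, false, 0), (26, false, 1), (27, false, 2), (24, false, 2), (18, false, 1), (9, false, 0), (26, false, 1), (20, false, 0), (27, false, 0)], [(24, false, 2), (9, false, 1), (27, false, 1)]),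
   ([0, 0, 0], [(0, false, 0), (21, false, 1), (6, false, 0)], [(0, false, 1)]),
   ([1, 0, 0], [(1, false, 0), (6, false, 2), (1, false, 1), (0, false, 0), (22, false, 1), (7, false, 0), (24, false, 2), (9, false, 1), (24, false, 1)], [(0, false, 1)]),
   ([1, 1, 0], [(2, false, 0)], [(1, false, 1), (1, false, 0), (7, false, 2), (2, false, 1), (9, false, 1)]),
   ([2, 0, 0], [(3, false, 0), (10, false, 2), (3, false, 1), (0, false, 0), (23, false, 1), (8, false, 0), (27, false, 3), (19, false, 2), (19, false, 3), (14, false, 2), (26, false, 2), (26, false, 3), (20, false, 2)], [(0, false, 1)]),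
   ([2, 1, 0], [(4, false, 0), (15, false, 2), (3, false, 1), (1, false, 0), (8, false, 2), (25, false, 5), (19, false, 4), (26, false, 6), (20, false, 5), (27, false, 5)], [(1, false, 1), (3, false, 0), (11, false, 2), (4, false, 1), (19, false, 3), (20, false, 4), (24, false, 4), (13, false, 3), (27, false, 5)]),
   ([2, 1, 1], [(4, false, 0), (16, false, 2), (4, false, 1), (2, false, 0), (20, false, 1)], [(2, false, 1)]),
   ([2, 2, 0], [(5, false, 0), (21, false, 0)], [(3, false, 1), (3, false, 0), (12, false, 2), (5, false, 1), (25, false, 1), (27, false, 2), (14, false, 1)]),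
   ([2, 2, 1], [(5, false, 0), (22, false, 0)], [(4, false, 1), (4, false, 0), (17, false, 2), (5, false, 1), (26, false, 1), (26, false, 2), (20, false, 1)]),
   ([2, 2, 2], [(5, false, 0), (23, false, 0)], [(5, false, 1)]),
   ([3, 0, 0], [(6, false, 0), (6, false, 1), (0, false, 0), (24, false, 1), (9, false, 0)], [(0, false, 1), (9, false, 0)]),
   ([3, 1, 1], [(7, false, 0), (7, false, 1), (2, false, 0)], [(2, false, 1)]),
   ([3, 2, 0], [(8, false, 0), (21, false, 3), (15, false, 2), (6, false, 1), (3, false, 0), (13, false, 2), (26, false, 4), (27, false, 5)], [(3, false, 1), (6, false, 0), (8, false, 1), (25, false, 4), (19, false, 3)]),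
   ([3, 2, 1], [(8, false, 0), (22, false, 3), (16, false, 2), (7, false, 1), (4, false, 0), (18, false, 2), (20, false, 3)], [(4, false, 1), (7, false, 0), (8, false, 1), (26, false, 4), (20, false, 3)]),
   ([3, 2, 2], [(8, false, 0), (23, false, 3), (17, false, 2), (8, false, 1), (5, false, 0), (24, false, 0), (26, false, 1), (27, false, 2), (20, false, 1)], [(5, false, 1)]),
   ([3, 3, 0], [(9, false, 0)], [(6, false, 1), (6, false, 0), (9, false, 1)]),
   ([3, 3, 2], [(9, false, 0)], [(8, false, 1), (8, false, 0), (24, false, 3), (18, false, 2), (9, false, 1), (26, false, 2), (20, false, 1), (27, false, 1)]),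
   ([4, 0, 0], [(10, false, 0), (15, false, 2), (10, false, 1), (0, false, 0), (25, false, 1), (26, false, 2), (26, false, 3), (20, false, 2), (27, false, 2)], [(0, false, 1), (13, false, 0), (27, false, 2)]),
   ([4, 1, 0], [(11, false, 0), (21, false, 3), (15, false, 2), (10, false, 1), (1, false, 0), (20, false, 4), (27, false, 4)], [(1, false, 1), (10, false, 0), (16, false, 2), (11, false, 1), (26, false, 4), (20, false, 3), (24, false, 3), (13, false, 2), (27, false, 4)]),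
   ([4, 1, 1], [(11, false, 0), (22, false, 3), (16, false, 2), (11, false, 1), (2, false, 0), (26, false, 2), (20, false, 1), (27, false, 1)], [(2, false, 1)]),
   ([4, 2, 0], [(12, false, 0), (21, false, 2), (10, false, 1), (3, false, 0), (14, false, 2), (26, false, 2), (27, false, 3)], [(3, false, 1), (10, false, 0), (17, false, 2), (12, false, 1), (26, false, 3), (25, false, 4), (19, false, 3), (14, false, 2), (26, false, 2), (27, false, 3)]),
   ([4, 3, 0], [(13, false, 0), (21, false, 2), (10, false, 1), (6, false, 0)], [(6, false, 1), (10, false, 0), (18, false, 2), (13, false, 1), (26, false, 3)])]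
  D := [[], [], [], [0, 1, 0, 0, 0, 0, 0, 0, 0, 0, 0, 0, 0, 0, 0, 0, 0, 0, 0, 0, 0, 0, 0, 0, 0, 0, 0, 0], [0, 0, 0, 1, 0, 0, 0, 0, 0, 0, 0, 0, 0, 0, 0, 0, 0, 0, 0, 0, 0, 0, 0, 0, 0, 0, 0, 0], [0, 0, 0, 0, 0, 0, 0, 0, 0, 0, 1, 0, 0, 0, 0, 0, 0, 0, 0, 0, 0, 0, 0, 0, 0, 0, 0, 0], [0, 0, 0, 0, 0, 0, 0, 0, 0, 0, 0, 0, 0, 0, 0, 1, 0, 0, 0, 0, 0, 0, 0, 0, 0, 0, 0, 0]]
  phi := [0, 0, 0, 0, 7, 0, 0, 0, 1, 0, 0, 0, 1, 0, 0, 0, 0, 1, 7, 0, 0, 0, 1, 0, 7, 2, 0, 1, 0, 0, 0, 0, 0]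
  sol := [(0, [(2, 1), (8, 1), (9, 1), (10, 1), (18, 1), (20, 1), (21, 1), (24, 1)]),
   (0, []),
   (0, [(0, 1), (3, 1), (4, 1), (6, 1), (7, 1), (9, 1), (10, 1), (11, 1), (12, 1), (13, 1), (17, 1), (18, 1), (20, 1), (24, 1)]),
   (0, []),
   (1, [(5, 1), (6, 1), (7, 1), (8, 1), (11, 1), (12, 1), (13, 1), (14, 1), (17, 1), (20, 1), (21, 1), (22, 1), (25, 1)]),
   (1, [(1, 1), (3, 1), (5, 1), (6, 1), (7, 1), (10, 1), (11, 1), (12, 1), (17, 1), (18, 1), (21, 1)]),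
   (0, [(5, 1), (10, 1), (13, 1), (16, 1), (18, 1), (22, 1), (24, 1)]),
   (0, [(0, 1), (6, 1), (7, 1), (13, 1), (14, 1), (17, 1), (18, 1), (20, 1), (22, 1), (24, 1)]),
   (0, [(1, 1), (5, 1), (6, 1), (7, 1), (8, 1), (9, 1), (10, 1), (11, 1), (12, 1), (18, 1)]),
   (0, [(0, 1), (6, 1), (13, 1), (14, 1), (17, 1), (18, 1), (20, 1), (22, 1), (24, 1)]),
   (0, []),
   (0, [(1, 1), (8, 1), (10, 1), (11, 1), (13, 1), (14, 1), (20, 1), (21, 1), (25, 1)]),
   (0, [(1, 1), (9, 1), (14, 1), (20, 1), (21, 1), (22, 1), (25, 1)]),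
   (0, [(5, 1), (6, 1), (7, 1), (12, 1), (14, 1), (16, 1), (20, 1), (24, 1), (25, 1)]),
   (0, [(1, 1), (5, 1), (6, 1), (7, 1), (9, 1), (11, 1), (12, 1), (14, 1), (16, 1), (20, 1), (22, 1), (24, 1), (25, 1)]),
   (0, []),
   (0, [(5, 1), (6, 1), (7, 1), (17, 1), (25, 1)]),
   (0, [(12, 1), (13, 1), (16, 1), (17, 1), (18, 1), (22, 1), (24, 1), (25, 1)]),
   (0, [(12, 1), (16, 1), (17, 1), (20, 1), (22, 1), (24, 1), (25, 1)]),
   (0, [(10, 1), (12, 1), (13, 1), (14, 1), (16, 1), (17, 1), (18, 1), (21, 1), (25, 1)]),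
   (0, [(5, 1), (6, 1), (7, 1), (10, 1), (17, 1), (25, 1)]),
   (0, [(10, 1), (13, 1), (16, 1), (18, 1), (22, 1), (24, 1)]),
   (0, [(5, 1), (6, 1), (7, 1), (10, 1), (13, 1), (16, 1), (18, 1), (22, 1), (24, 1)]),
   (0, [(13, 1)]),
   (0, [(14, 1)]),
   (0, [(10, 1), (12, 1), (14, 1), (16, 1), (17, 1), (20, 1), (21, 1), (24, 1)]),
   (0, [(10, 1), (12, 1), (13, 1), (17, 1), (18, 1), (20, 1)]),
   (0, [(5, 1), (6, 1), (7, 1), (13, 1), (14, 1), (16, 1), (17, 1), (18, 1), (20, 1), (22, 1), (24, 1)])]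
  nf := [[], [0], [1], [0, 1], [2], [0, 2], [1, 2], [0, 1, 2], [3], [0, 3], [1, 3], [0, 1, 3], [2, 3], [0, 2, 3], [1, 2, 3], [0, 1, 2, 3], [4], [0, 4], [1, 4], [0, 1, 4], [2, 4], [0, 2, 4], [1, 2, 4], [0, 1, 2, 4], [3, 4], [0, 3, 4], [1, 3, 4], [0, 1, 3, 4], [2, 3, 4], [0, 2, 3, 4], [1, 2, 3, 4], [0, 1, 2, 3, 4], [5], [0, 5], [1, 5], [0, 1, 5], [2, 5], [0, 2, 5], [1, 2, 5], [0, 1, 2, 5], [3, 5], [0, 3, 5], [1, 3, 5], [0, 1, 3, 5], [2, 3, 5], [0, 2, 3, 5], [1, 2, 3, 5], [0, 1, 2, 3, 5], [4, 5], [0, 4, 5], [1, 4, 5], [0, 1, 4, 5], [2, 4, 5], [0, 2, 4, 5], [1, 2, 4, 5], [0, 1, 2, 4, 5], [3, 4, 5], [0, 3, 4, 5], [1, 3, 4, 5], [0, 1, 3, 4, 5], [2, 3, 4, 5], [0, 2, 3, 4, 5], [1, 2, 3, 4, 5], [0, 1, 2, 3, 4, 5], [6], [0, 6], [1, 6], [0, 1, 6], [2, 6], [0, 2, 6], [1, 2, 6], [0, 1, 2, 6], [3, 6], [0, 3, 6], [1, 3, 6], [0, 1, 3, 6], [2, 3, 6], [0, 2, 3, 6], [1, 2, 3, 6], [0, 1, 2, 3, 6], [4, 6], [0, 4, 6], [1, 4, 6], [0, 1, 4,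 6], [2, 4, 6], [0, 2, 4, 6], [1, 2, 4, 6], [0, 1, 2, 4, 6], [3, 4, 6], [0, 3, 4, 6], [1, 3, 4, 6], [0, 1, 3, 4, 6], [2, 3, 4, 6], [0, 2, 3, 4, 6], [1, 2, 3, 4, 6], [0, 1, 2, 3, 4, 6], [5, 6], [0, 5, 6], [1, 5, 6], [0, 1, 5, 6], [2, 5, 6], [0, 2, 5, 6], [1, 2, 5, 6], [0, 1, 2, 5, 6], [3, 5, 6], [0, 3, 5, 6], [1, 3, 5, 6], [0, 1, 3, 5, 6], [2, 3, 5, 6], [0, 2, 3, 5, 6], [1, 2, 3, 5, 6], [0, 1, 2, 3, 5, 6], [4, 5, 6], [0, 4, 5, 6], [1, 4, 5, 6], [0, 1, 4, 5, 6], [2, 4, 5, 6], [0, 2, 4, 5, 6], [1, 2, 4, 5, 6], [0, 1, 2, 4, 5, 6], [3, 4, 5, 6], [0, 3, 4, 5, 6], [1, 3, 4, 5, 6], [0, 1, 3, 4, 5, 6], [2, 3, 4, 5, 6], [0, 2, 3, 4, 5, 6], [1, 2, 3, 4, 5, 6], [0, 1, 2, 3, 4, 5, 6]]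

/-- The combination giving four times the form modulo eight. -/
def four8 : List (ℕ × ℕ) := [(0, 4), (1, 4), (5, 2), (6, 4), (7, 4), (9, 4), (10, 6), (12, 4), (13, 2), (15, 6), (16, 6), (18, 6), (19, 5), (21, 4), (22, 6), (23, 4), (24, 6), (25, 4)]

end CfsgLib.M22Mult
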